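import Mathlib
import Groth.Prelude.Def_EGA43
import Groth.Prelude.Def_Flat
import Groth.Agent.H8Props.FibreDimSemicont

/-!
# Equidimensional morphisms: criteria from the fibre dimension (EGA IV 13.3)
-/

set_option autoImplicit false
set_option linter.style.haveILetI false
universe u

open CategoryTheory CategoryTheory.Limits AlgebraicGeometry TopologicalSpace Topology

namespace Groth.Agent.H06Equidim

open H8Props.FieldDim

/-- If the fibre dimension is `e` everywhere, all components of all fibres have dimension `e`. -/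
theorem dim_component_fibre_of_fibreDimAt {X Y : Scheme.{u}} (f : X ⟶ Y) [LocallyOfFiniteType f]
    (e : WithBot ℕ∞) (he : ∀ x, FlatMor.fibreDimAt f x = e) (y : Y) (Z : Set (f.fiber y))
    (hZ : Z ∈ irreducibleComponents (f.fiber y)) : topologicalKrullDim Z = e := by
  obtain ⟨u, rfl, hmax⟩ := mem_irreducibleComponents_iff hZ
  haveI := locallyOfFiniteType_fiberToSpec f y
  show cdim u = _
  rw [← localDim_of_maximal (k := Y.residueField y) (f.fiberToSpecResidueField y) u hmax,
    ← fibreDimAt_eq_localDim f u, he]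

/-- Conversely. -/
theorem fibreDimAt_eq_of_dim_component_fibre {X Y : Scheme.{u}} (f : X ⟶ Y) [LocallyOfFiniteType f]
    (e : WithBot ℕ∞) (he : ∀ (x : X) (Z : Set (f.fiber (f x))),
      Z ∈ irreducibleComponents (f.fiber (f x)) → topologicalKrullDim Z = e) (x : X) :
    FlatMor.fibreDimAt f x = e :=
  haveI := locallyOfFiniteType_fiberToSpec f (f x)
  localDim_eq_of_pure (k := Y.residueField (f x)) (f.fiberToSpecResidueField (f x)) (f.asFiber x) e
    (he x)

theorem fibreDimAt_opens_ι {X Y : Scheme.{u}} (f : X ⟶ Y) [LocallyOfFiniteType f] (U : X.Opens)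
    (x : U.toScheme) : FlatMor.fibreDimAt (U.ι ≫ f) x = FlatMor.fibreDimAt f (U.ι x) :=
  fibreDimAt_openImmersion_comp U.ι f x

/-- Near a point, a locally Noetherian scheme consists of generizations of components through it. -/
theorem exists_nhd_components_mem {X : Scheme.{u}} [IsLocallyNoetherian X] (x : X) (U₀ : X.Opens)
    (hx : x ∈ U₀) : ∃ U : X.Opens, x ∈ U ∧ U ≤ U₀ ∧
      ∀ η : X, η ∈ U → (∀ ζ, ζ ⤳ η → ζ = η) → η ⤳ x := by
  obtain ⟨(V : X.Opens), (hV : IsAffineOpen V), hxV, hVU⟩ := Opens.isBasis_iff_nbhd.mp X.isBasis_affineOpens hx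
  haveI : IsNoetherianRing Γ(X, V) := IsLocallyNoetherian.component_noetherian ⟨V, hV⟩
  haveI : IsLocallyNoetherian V.toScheme := isLocallyNoetherian_of_isOpenImmersion V.ι
  haveI : CompactSpace V.toScheme := isCompact_iff_compactSpace.mp hV.isCompact
  haveI : IsNoetherian V.toScheme := {}
  haveI : NoetherianSpace V.toScheme := inferInstance
  let bad : Set (Set V.toScheme) := {Z ∈ irreducibleComponents V.toScheme | (⟨x, hxV⟩ : V.toScheme) ∉ Z}
  have hfin : bad.Finite :=
    (NoetherianSpace.finite_irreducibleComponents (α := V.toScheme)).subset fun Z hZ => hZ.1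
  have hcl : IsClosed (⋃ Z ∈ bad, Z) :=
    hfin.isClosed_biUnion fun Z hZ => isClosed_of_mem_irreducibleComponents Z hZ.1
  let O : V.toScheme.Opens := ⟨(⋃ Z ∈ bad, Z)ᶜ, hcl.isOpen_compl⟩
  refine ⟨V.ι ''ᵁ O, ⟨⟨x, hxV⟩, ?_, rfl⟩, (V.ι_image_le O).trans hVU, ?_⟩
  · intro hmem
    obtain ⟨Z, hZ, hxZ⟩ := Set.mem_iUnion₂.mp hmem
    exact hZ.2 hxZ
  · rintro η ⟨η', hη', rfl⟩ hmax
    obtain ⟨ζ, hζ, hT⟩ := exists_component_generization η'
    obtain rfl : ζ = η' := V.ι.isEmbedding.injective (hmax _ (hζ.map V.ι.continuous))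
    have hxT : (⟨x, hxV⟩ : V.toScheme) ∈ closure ({ζ} : Set V.toScheme) := by
      by_contra h
      exact hη' (Set.mem_iUnion₂.mpr ⟨closure {ζ}, ⟨hT, h⟩, subset_closure rfl⟩)
    exact (specializes_iff_mem_closure.mpr hxT).map V.ι.continuous

end Groth.Agent.H06Equidim
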