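import Mathlib
import Groth.Agent.H06Equidim.Basic
import Groth.Agent.H8Props.FlatFibreConst
import Groth.Agent.H06EGA9.CMAffineSpace

/-!
# Points of maximal transcendence degree; affine space over the base (EGA IV 13.3.1)
-/

set_option autoImplicit false
set_option linter.style.haveILetI false
universe u

open CategoryTheory CategoryTheory.Limits AlgebraicGeometry TopologicalSpace Topology

namespace Groth.Agent.H06Equidim

open H8Props.FieldDim

theorem closure_singleton_mem_irreducibleComponents {Z : Scheme.{u}} (z : Z)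
    (hz : ∀ ζ, ζ ⤳ z → ζ = z) : closure ({z} : Set Z) ∈ irreducibleComponents Z := by
  obtain ⟨η, hη, hT⟩ := exists_component_generization z
  rwa [hz η hη] at hT

theorem eq_of_specializes_of_component {Z : Scheme.{u}} {z : Z}
    (h : closure ({z} : Set Z) ∈ irreducibleComponents Z) (ζ : Z) (hζ : ζ ⤳ z) : ζ = z := by
  obtain ⟨η, he, hη⟩ := mem_irreducibleComponents_iff h
  obtain rfl : η = z := (show IsGenericPoint z (closure {η}) from he).eq rfl |>.symm
  exact hη ζ hζ

theorem closure_image_closure_singleton {Z W : Scheme.{u}} (f : Z ⟶ W) (z : Z) :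
    closure (f '' closure ({z} : Set Z)) = closure {f z} :=
  subset_antisymm
    (closure_minimal ((image_closure_subset_closure_image f.continuous).trans
      (by rw [Set.image_singleton])) isClosed_closure)
    (closure_mono (Set.singleton_subset_iff.mpr ⟨z, subset_closure rfl, rfl⟩))

theorem cdim_asFiber_le_fibreDimAt {X Y : Scheme.{u}} (f : X ⟶ Y) [LocallyOfFiniteType f] (x : X) :
    cdim (f.asFiber x) ≤ FlatMor.fibreDimAt f x := by
  haveI := locallyOfFiniteType_fiberToSpec f (f x)
  show _ ≤ FlatMor.localDim (f.fiber (f x)) (f.asFiber x)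
  rw [localDim_eq (k := Y.residueField (f x)) (f.fiberToSpecResidueField (f x))]
  exact le_iSup_of_le ⟨f.asFiber x, specializes_rfl⟩ le_rfl

/-- A point of maximal dimension in its fibre is maximal in its fibre. -/
theorem eq_of_specializes_of_cdim_eq {X Y : Scheme.{u}} (f : X ⟶ Y) [LocallyOfFiniteType f] (x : X)
    (h : cdim (f.asFiber x) = FlatMor.fibreDimAt f x) (ζ : X) (hζ : ζ ⤳ x) (hfζ : f ζ = f x) :
    ζ = x := by
  haveI := locallyOfFiniteType_fiberToSpec f (f x)
  obtain ⟨u', hu'⟩ : ζ ∈ Set.range (f.fiberι (f x)) := by rw [f.range_fiberι]; exact hfζ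
  have hsp : u' ⤳ f.asFiber x := (f.fiberι (f x)).isEmbedding.isInducing.specializes_iff.mp
    (by rwa [hu', f.fiberι_asFiber])
  by_contra hne
  have hlt : cdim (f.asFiber x) < cdim u' :=
    cdim_lt (k := Y.residueField (f x)) (f.fiberToSpecResidueField (f x)) hsp fun e =>
      hne (by rw [← hu', e, f.fiberι_asFiber])
  refine hlt.not_ge ?_
  rw [h]
  show _ ≤ FlatMor.localDim (f.fiber (f x)) (f.asFiber x)
  rw [localDim_eq (k := Y.residueField (f x)) (f.fiberToSpecResidueField (f x))]
  exact le_iSup_of_le ⟨u', hsp⟩ le_rfl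

/-- At a point maximal in its fibre. -/
theorem cdim_asFiber_eq_fibreDimAt {X Y : Scheme.{u}} (f : X ⟶ Y) [LocallyOfFiniteType f] (x : X)
    (hx : ∀ ζ, ζ ⤳ x → ζ = x) : cdim (f.asFiber x) = FlatMor.fibreDimAt f x := by
  haveI := locallyOfFiniteType_fiberToSpec f (f x)
  refine (localDim_of_maximal (k := Y.residueField (f x)) (f.fiberToSpecResidueField (f x))
    (f.asFiber x) fun u hu => ?_).symm
  apply (f.fiberι (f x)).isEmbedding.injective
  have := hu.map (f.fiberι (f x)).continuous
  rw [f.fiberι_asFiber] at this ⊢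
  exact hx _ this

theorem exists_trdeg_asFiber {X Y : Scheme.{u}} (f : X ⟶ Y) [LocallyOfFiniteType f] (x : X) :
    ∃ s : ℕ, cdim (f.asFiber x) = s ∧
      @Algebra.trdeg (Y.residueField (f.base x)) (X.residueField x) _ _
        (f.residueFieldMap x).hom.toAlgebra = s := by
  haveI := locallyOfFiniteType_fiberToSpec f (f x)
  letI := (f.residueFieldMap x).hom.toAlgebra
  obtain ⟨c, hc, hc'⟩ := exists_trdeg (k := Y.residueField (f x)) (f.fiberToSpecResidueField (f x))
    (L := X.residueField x) (f.asFiberHom x) (f.asFiberHom_fiberToSpecResidueField x)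
    (IsLocalRing.closedPoint _)
  erw [f.asFiberHom_apply] at hc
  exact ⟨c, hc, hc'⟩

/-- Dimensions of points in fibres add up along compositions. -/
theorem cdim_asFiber_comp {X Y W : Scheme.{u}} (g : X ⟶ Y) (h : Y ⟶ W) [LocallyOfFiniteType g]
    [LocallyOfFiniteType h] (x : X) :
    cdim ((g ≫ h).asFiber x) = cdim (g.asFiber x) + cdim (h.asFiber (g x)) := by
  obtain ⟨a, ha, ha'⟩ := exists_trdeg_asFiber g x
  obtain ⟨b, hb, hb'⟩ := exists_trdeg_asFiber h (g x)
  obtain ⟨c, hc, hc'⟩ := exists_trdeg_asFiber (g ≫ h) x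
  letI iA : Algebra (W.residueField (h (g x))) (Y.residueField (g x)) := (h.residueFieldMap (g x)).hom.toAlgebra
  letI iB : Algebra (Y.residueField (g x)) (X.residueField x) := (g.residueFieldMap x).hom.toAlgebra
  letI iC : Algebra (W.residueField (h (g x))) (X.residueField x) := ((g ≫ h).residueFieldMap x).hom.toAlgebra
  haveI : IsScalarTower (W.residueField (h (g x))) (Y.residueField (g x)) (X.residueField x) :=
    IsScalarTower.of_algebraMap_eq' (congrArg CommRingCat.Hom.hom (Scheme.residueFieldMap_comp g h x))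
  haveI : FaithfulSMul (Y.residueField (g x)) (X.residueField x) :=
    (faithfulSMul_iff_algebraMap_injective _ _).mpr (RingHom.injective _)
  have h1 := trdeg_add_eq (W.residueField (h (g x))) (Y.residueField (g x)) (A := X.residueField x)
  have e : Algebra.trdeg (W.residueField (h (g x))) (X.residueField x) = (c : Cardinal.{u}) := hc'
  rw [e, ha', hb'] at h1
  have h2 : b + a = c := by exact_mod_cast h1
  rw [ha, hb, hc, ← h2, add_comm b a]
  push_cast
  rfl

theorem fibreDimAt_affineSpace {Y : Scheme.{u}} (σ : Type u) [Fintype σ] (y : 𝔸(σ; Y)) :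
    FlatMor.fibreDimAt (𝔸(σ; Y) ↘ Y) y = (Fintype.card σ : ℕ) := by
  let h := 𝔸(σ; Y) ↘ Y
  obtain ⟨(W : Y.Opens), (hW : IsAffineOpen W), hyW, -⟩ := Opens.isBasis_iff_nbhd.mp Y.isBasis_affineOpens
    (show h y ∈ (⊤ : Y.Opens) from trivial)
  let π := Spec.map (CommRingCat.ofHom (algebraMap Γ(Y, W) (MvPolynomial σ Γ(Y, W))))
  have hpb := AffineSpace.isPullback_map (n := σ) hW.fromSpec
  haveI : IsOpenImmersion (AffineSpace.map σ hW.fromSpec) :=
    MorphismProperty.of_isPullback hpb.flip inferInstance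
  haveI : LocallyOfFiniteType π := (HasRingHomProperty.Spec_iff (P := @LocallyOfFiniteType)).mpr
    (RingHom.finiteType_algebraMap.mpr inferInstance)
  let j : Spec (CommRingCat.of (MvPolynomial σ Γ(Y, W))) ⟶ 𝔸(σ; Y) :=
    (AffineSpace.SpecIso σ Γ(Y, W)).inv ≫ AffineSpace.map σ hW.fromSpec
  have hsq : π ≫ hW.fromSpec = j ≫ h := by
    show π ≫ hW.fromSpec = ((AffineSpace.SpecIso σ Γ(Y, W)).inv ≫ AffineSpace.map σ hW.fromSpec) ≫ h
    rw [Category.assoc, AffineSpace.map_over, AffineSpace.SpecIso_inv_over_assoc]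
    rfl
  obtain ⟨a, ha⟩ : h y ∈ Set.range hW.fromSpec := by rw [hW.range_fromSpec]; exact hyW
  obtain ⟨z, hz, -⟩ := Scheme.exists_preimage_of_isPullback hpb y a ha.symm
  obtain ⟨w, rfl⟩ : ∃ w, j w = y := ⟨(AffineSpace.SpecIso σ Γ(Y, W)).hom z, by
    rw [← Scheme.Hom.comp_apply, ← hz]; simp [j]⟩
  rw [← fibreDimAt_openImmersion_comp j h w, ← hsq, fibreDimAt_comp_openImmersion π hW.fromSpec w]
  exact (affineSpace_fibre σ w).1

theorem flat_affineSpace {Y : Scheme.{u}} (σ : Type u) [Fintype σ] : Flat (𝔸(σ; Y) ↘ Y) :=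
  (Flat.iff_flat_stalkMap _).mpr fun y => (H06EGA9.isCMAt_affineSpace σ y).1

end Groth.Agent.H06Equidim
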